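import Cfsg.Agent.H677.DG.SpRank
import Cfsg.Agent.H113.PSU.Left43
import Cfsg.Agent.H113.PSU.Main

/-!
# The triangle `{2, 3, 5}` in the degree graph of `PSU_4(2) = PSp_4(3)` (helper677)
-/

set_option autoImplicit false

namespace Cfsg.Agent.H677.Tri42

open Cfsg Cfsg.Agent.H671.H5

universe u v

theorem deg_of_one {S : Type u} [Group S] {χ : S → ℂ} (hχ : IsIrrCharacter S χ) {n : ℕ} (h : χ 1 = n) :
    n ∈ charDegrees S := by
  refine ⟨⟨χ, hχ⟩, ?_⟩
  change ⌊(χ 1).re⌋₊ = n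
  rw [h]
  simp

/-- degrees `15`, `20`, `24` give the triangle `2`, `3`, `5` -/
theorem tri_of {S : Type u} [Group S] (h15 : 15 ∈ charDegrees S) (h20 : 20 ∈ charDegrees S) (h24 : 24 ∈ charDegrees S) :
    ∃ r s t : ℕ, Adj r s S ∧ Adj s t S ∧ Adj r t S :=
  ⟨2, 3, 5, ⟨by norm_num, by norm_num, by norm_num, 24, h24, by norm_num⟩,
    ⟨by norm_num, by norm_num, by norm_num, 15, h15, by norm_num⟩,
    ⟨by norm_num, by norm_num, by norm_num, 20, h20, by norm_num⟩⟩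

/-- degree `15` of `PSp_4(3)` -/
theorem fifteen {F : Type u} [Field F] [Fintype F] (hF : Fintype.card F = 3) : 15 ∈ charDegrees (PSp 2 F) := by
  obtain ⟨χ₁, χ₂, f, g, -, h2, -, hg, -, e2⟩ := SpRank.exists_chars (m := 2) (F := F) le_rfl
  rw [Nat.card_eq_fintype_card, hF] at e2
  norm_num at e2
  have : g = 15 := by omega
  subst this
  exact deg_of_one h2 hg

/-- the triangle of `PSp_4(3)` -/
theorem tri_psp43 {F : Type u} [Field F] [Fintype F] (hF : Fintype.card F = 3) {S : Type v} [Group S] (e : S ≃* PSp 2 F) :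
    ∃ r s t : ℕ, Adj r s S ∧ Adj s t S ∧ Adj r t S := by
  obtain ⟨χ₁, χ₂, h1, h2, h3, h4⟩ := H113.PSU.Left43.sp43 hF
  unfold Adj
  rw [H424.DegTools.degreeGraph_congr e]
  exact tri_of (fifteen hF) (deg_of_one h1 (n := 20) (by rw [h3]; norm_num)) (deg_of_one h2 (n := 24) (by rw [h4]; norm_num))

/-- the triangle of `PSU_4(2)` -/
theorem tri_psu42 {F : Type u} [Field F] [Fintype F] (hF : Fintype.card F = 4) {S : Type v} [Group S] (e : S ≃* PSU 4 F 2) :
    ∃ r s t : ℕ, Adj r s S ∧ Adj s t S ∧ Adj r t S := by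
  obtain ⟨e'⟩ := Cfsg.Agent.S0822.result (F := F) (K := ZMod 3) hF (ZMod.card 3)
  exact tri_psp43 (ZMod.card 3) (e.trans e')

/-- **a triangle in the degree graph of `PSU_n(q)`, `n ≥ 4`** -/
theorem tri_un {S : Type u} [Group S] (h : H113.PSU.Main.IsUn S) : ∃ r s t : ℕ, Adj r s S ∧ Adj s t S ∧ Adj r t S := by
  obtain ⟨F, _, _, n, q, hF, hn, ⟨e⟩⟩ := h
  by_cases h42 : n = 4 ∧ q = 2
  · obtain ⟨rfl, rfl⟩ := h42
    exact tri_psu42 (by rw [hF]; norm_num) e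
  · exact H113.PSU.Main.tri_of_equiv hF hn h42 e

end Cfsg.Agent.H677.Tri42
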