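import Cfsg.Agent.H671.H5Facts
import Cfsg.Agent.H424.DegTools
import Cfsg.Agent.H690.Spor.RankThree
import Cfsg.Agent.H870.IMFiTwentyTwo
import Cfsg.Agent.H870.IMFiTwentyThree
import Cfsg.Agent.H870.IMRu
import Cfsg.Agent.H843.IMC.Co2A

/-!
# Triangles in the degree graphs of `Ru`, `Fi22`, `Fi23`, `Co2` (helper677)

Rank 3 actions.
-/

set_option autoImplicit false
set_option maxRecDepth 100000

open Cfsg Cfsg.Agent.H671.H5

namespace Cfsg.Agent.H677.TriSpor

open Cfsg.Agent.H690.Spor.RankThree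

universe u v

/-- a triangle -/
def Tri (S : Type u) [Group S] : Prop := ∃ p q r : ℕ, Adj p q S ∧ Adj q r S ∧ Adj p r S

theorem Tri.of_equiv {S : Type u} [Group S] {T : Type v} [Group T] (e : S ≃* T) (h : Tri T) : Tri S := by
  unfold Tri Adj at *
  rw [H424.DegTools.degreeGraph_congr e]
  exact h

/-- `d` has three prime divisors `p`, `q`, `r` of the list `L` -/
def chk3 (p q r d : ℕ) : Bool := d % (p * q * r) == 0

theorem tri_of_degree {S : Type u} [Group S] {d : ℕ} (h : ∃ χ : IrrCharacter S, charDegree (χ : S → ℂ) = d)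
    {p q r : ℕ} (hp : p.Prime) (hq : q.Prime) (hr : r.Prime) (h1 : p ≠ q) (h2 : q ≠ r) (h3 : p ≠ r)
    (hd : p * q * r ∣ d) : Tri S := by
  obtain ⟨χ, hχ⟩ := h
  have e1 : p * q ∣ d := (Dvd.intro _ rfl).trans hd
  have e2 : q * r ∣ d := (Dvd.intro_left p (by ring)).trans hd
  have e3 : p * r ∣ d := (Dvd.intro_left q (by ring)).trans hd
  exact ⟨p, q, r, adj_iff.2 ⟨h1, hp, hq, χ, by rw [hχ]; exact e1⟩, adj_iff.2 ⟨h2, hq, hr, χ, by rw [hχ]; exact e2⟩,
    adj_iff.2 ⟨h3, hp, hr, χ, by rw [hχ]; exact e3⟩⟩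

/-- rank 3 actions: all possible pairs of degrees have a member with three prime divisors -/
theorem tri_of_r3 {G : Type u} {X : Type v} [Group G] [MulAction G X] [Finite G] {R : X → X → Prop} {k l : ℕ}
    (h : R3 G X R k l) (L : List ℕ)
    (hL : ∀ f ≤ (k + l) / 2, (1 + k + l) * k * l % (f * (k + l - f)) = 0 →
      Nat.sqrt ((1 + k + l) * k * l / (f * (k + l - f))) * Nat.sqrt ((1 + k + l) * k * l / (f * (k + l - f))) =
        (1 + k + l) * k * l / (f * (k + l - f)) ∨ f + f = k + l → f ∈ L ∨ k + l - f ∈ L)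
    (hT : ∀ d ∈ L, ∃ p q r : ℕ, p.Prime ∧ q.Prime ∧ r.Prime ∧ p ≠ q ∧ q ≠ r ∧ p ≠ r ∧ p * q * r ∣ d) : Tri G := by
  classical
  have hX : Finite X := by
    apply Nat.finite_of_card_ne_zero
    rw [h.cardn]
    omega
  have := Fintype.ofFinite X
  obtain ⟨χ₁, χ₂, f, g, D, h1, h2, -, h3, h4, h5⟩ := h.frame
  have d1 : charDegree (χ₁ : G → ℂ) = f := Cfsg.Agent.H670.PSing.charDegree_eq_of h1
  have d2 : charDegree (χ₂ : G → ℂ) = g := Cfsg.Agent.H670.PSing.charDegree_eq_of h2
  have hN : 0 < (1 + k + l) * k * l := by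
    have := h.k0
    have := h.l0
    positivity
  have key : ∀ f g : ℕ, f + g = k + l → f * g * D = (1 + k + l) * k * l → (f ≠ g → IsSquare D) → f ≤ g →
      f ∈ L ∨ g ∈ L := by
    intro f g h3 h4 h5 hle
    have hg : g = k + l - f := by omega
    have hfg : 0 < f * g := by
      rcases Nat.eq_zero_or_pos (f * g) with h | h
      · rw [h, zero_mul] at h4
        omega
      · exact h
    have hdiv : (1 + k + l) * k * l / (f * g) = D := by
      rw [← h4, Nat.mul_div_cancel_left _ hfg]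
    rw [hg] at hdiv h4 ⊢
    refine hL f (by omega) ?_ ?_
    · rw [← h4]
      exact Nat.mul_mod_right _ _
    · rw [hdiv]
      by_cases hne : f = g
      · right; omega
      · left
        obtain ⟨s, rfl⟩ := h5 hne
        rw [Nat.sqrt_eq]
  have fin : ∀ d ∈ L, (∃ χ : IrrCharacter G, charDegree (χ : G → ℂ) = d) → Tri G := by
    intro d hd hχ
    obtain ⟨p, q, r, hp, hq, hr, e1, e2, e3, e4⟩ := hT d hd
    exact tri_of_degree hχ hp hq hr e1 e2 e3 e4
  rcases le_total f g with hle | hle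
  · rcases key f g h3 h4 h5 hle with h | h
    · exact fin f h ⟨χ₁, d1⟩
    · exact fin g h ⟨χ₂, d2⟩
  · rcases key g f (by omega) (by rw [mul_comm g f]; exact h4) (fun h => h5 h.symm) hle with h | h
    · exact fin g h ⟨χ₂, d2⟩
    · exact fin f h ⟨χ₁, d1⟩

/-- the boolean check -/
def chk (k l : ℕ) (L : List ℕ) : Bool :=
  (List.range ((k + l) / 2 + 1)).all fun f =>
    !((1 + k + l) * k * l % (f * (k + l - f)) == 0) ||
    !(Nat.sqrt ((1 + k + l) * k * l / (f * (k + l - f))) * Nat.sqrt ((1 + k + l) * k * l / (f * (k + l - f))) ==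
        (1 + k + l) * k * l / (f * (k + l - f)) || f + f == k + l) || L.contains f || L.contains (k + l - f)

theorem tri_of_chk {G : Type u} {X : Type v} [Group G] [MulAction G X] [Finite G] {R : X → X → Prop} {k l : ℕ}
    (h : R3 G X R k l) (L : List ℕ) (hc : chk k l L = true)
    (hT : ∀ d ∈ L, ∃ p q r : ℕ, p.Prime ∧ q.Prime ∧ r.Prime ∧ p ≠ q ∧ q ≠ r ∧ p ≠ r ∧ p * q * r ∣ d) : Tri G := by
  refine tri_of_r3 h L (fun f hf h1 h2 => ?_) hT
  have h3 := List.all_eq_true.1 hc f (List.mem_range.2 (by omega))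
  simp only [Bool.or_eq_true, Bool.not_eq_true', beq_eq_false_iff_ne, Bool.or_eq_false_iff, List.contains_iff_mem] at h3
  rcases h3 with ((h3 | h3) | h3) | h3
  · exact absurd h1 h3
  · exfalso
    rcases h2 with h2 | h2
    · exact h3.1 h2
    · exact h3.2 h2
  · exact Or.inl h3
  · exact Or.inr h3

/-- `Ru` : 783, 3276 -/
theorem ru {S : Type u} [Group S] (h : Spor.IsoRu S) : Tri S := by
  obtain ⟨e⟩ := h
  have e' := e.trans Cfsg.Agent.RuLat.Main.equiv
  refine Tri.of_equiv e' ?_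
  have := H690.Spor.Ru.instFiniteH
  obtain ⟨R, hR⟩ := H690.Spor.Ru.r3
  refine tri_of_chk hR [3276] (by decide +kernel) ?_
  intro d hd
  rw [List.mem_singleton] at hd
  subst hd
  exact ⟨2, 3, 7, by norm_num, by norm_num, by norm_num, by norm_num, by norm_num, by norm_num, by norm_num⟩

/-- `Fi22` : 429, 3080 (or 1430, 2079) -/
theorem fi22 {S : Type u} [Group S] (h : Spor.IsoFi22 S) : Tri S := by
  obtain ⟨e⟩ := h
  have C := Cfsg.Agent.LThreeFi22.Inst.ctx e
  have : Finite S := Nat.finite_of_card_ne_zero (by rw [C.card]; norm_num)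
  let _ := Cfsg.Agent.H870.IMFi22.act C
  refine tri_of_chk (Cfsg.Agent.H870.IMFi22.r3 C) [429, 1430] (by decide +kernel) ?_
  intro d hd
  rw [List.mem_cons, List.mem_singleton] at hd
  rcases hd with rfl | rfl
  · exact ⟨3, 11, 13, by norm_num, by norm_num, by norm_num, by norm_num, by norm_num, by norm_num, by norm_num⟩
  · exact ⟨2, 5, 11, by norm_num, by norm_num, by norm_num, by norm_num, by norm_num, by norm_num, by norm_num⟩

/-- `Fi23` : 782, 30888 -/
theorem fi23 {S : Type u} [Group S] [Finite S] (h : Spor.IsoFi23 S) : Tri S := by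
  obtain ⟨e⟩ := h
  refine Tri.of_equiv e ?_
  have : Finite Spor.Fi23 := Finite.of_equiv _ e.toEquiv
  obtain ⟨R, hR⟩ := Cfsg.Agent.H870.IMFi23.exists_r3
  refine tri_of_chk hR [782] (by decide +kernel) ?_
  intro d hd
  rw [List.mem_singleton] at hd
  subst hd
  exact ⟨2, 17, 23, by norm_num, by norm_num, by norm_num, by norm_num, by norm_num, by norm_num, by norm_num⟩

/-- `Co2` : 2024 -/
theorem co2 {S : Type u} [Group S] (h : Spor.IsoCo2 S) : Tri S := by
  obtain ⟨e⟩ := h
  refine Tri.of_equiv e ?_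
  exact tri_of_degree Cfsg.Agent.H843.IMC.Co2A.hasDeg_2024_275.1 (p := 2) (q := 11) (r := 23) (by norm_num)
    (by norm_num) (by norm_num) (by norm_num) (by norm_num) (by norm_num) (by norm_num)

end Cfsg.Agent.H677.TriSpor
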