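import Cfsg.Agent.H671.H5Facts
import Cfsg.Agent.H863.BMin
import Cfsg.Agent.H847.MonDeg
import Cfsg.Agent.H419.MinDeg
import Cfsg.Agent.S5540

/-!
# Triangles in the degree graphs of the Baby Monster and the Monster (helper677)

`4371 = 3 * 31 * 47` and `196883 = 47 * 59 * 71` are degrees.
-/

set_option autoImplicit false

open Cfsg Cfsg.Agent.H671.H5

namespace Cfsg.Agent.H677.TriBM

universe u

/-- transport of a degree -/
theorem adj_of_dvd {S : Type u} [Group S] {T : Type*} [Group T] (e : S ≃* T) {d : ℕ}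
    (h : ∃ χ : IrrCharacter T, charDegree (χ : T → ℂ) = d) {p q : ℕ} (hp : p.Prime) (hq : q.Prime) (hpq : p ≠ q)
    (hd : p * q ∣ d) : Adj p q S := by
  rw [adj_iff]
  obtain ⟨χ, hχ⟩ := h
  refine ⟨hpq, hp, hq, ⟨(χ : T → ℂ) ∘ e.toMonoidHom,
    Cfsg.Agent.Characters.Core.isIrr_comp e.toMonoidHom e.surjective χ.2⟩, ?_⟩
  have h1 : charDegree ((χ : T → ℂ) ∘ e.toMonoidHom) = charDegree (χ : T → ℂ) := by
    unfold charDegree
    rw [Function.comp_apply, map_one]
  show p * q ∣ charDegree ((χ : T → ℂ) ∘ e.toMonoidHom)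
  rw [h1, hχ]
  exact hd

theorem exists_m [Finite Spor.Monster] [Nontrivial Spor.Monster] :
    ∃ χ : IrrCharacter Spor.Monster, charDegree (χ : Spor.Monster → ℂ) = 196883 := by
  obtain ⟨ρ, hρ, -⟩ := Cfsg.Agent.S5540.result
  refine Cfsg.Agent.H419.MinDeg.exists_irr_of_real ?_ ρ hρ
  intro n σ hn g
  by_contra hg
  have h1 := Cfsg.Agent.H847.MonDeg.bound σ ⟨g, hg⟩
  rw [Module.finrank_fin_fun] at h1
  omega

theorem exists_b [Finite Spor.BabyMonster] :
    ∃ χ : IrrCharacter Spor.BabyMonster, charDegree (χ : Spor.BabyMonster → ℂ) = 4371 := by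
  obtain ⟨ρ, -, hρ⟩ := Cfsg.Agent.H863.BMin.exists_rep (F := ℂ) two_ne_zero
  have h1 : Representation.character (ρ : Representation ℂ Spor.BabyMonster (Fin 4371 → ℂ)) 1 = ((4371 : ℕ) : ℂ) := by
    rw [Representation.char_one]
    simp
  obtain ⟨x, hx⟩ : ∃ x, ρ x ≠ 1 := by
    by_contra hcon
    push Not at hcon
    exact hρ (MonoidHom.ext hcon)
  have hmin : ∀ (n : ℕ) (σ : Representation ℂ Spor.BabyMonster (Fin n → ℂ)), n < 4371 → ∀ g, σ g = 1 := by
    intro n σ hn g
    by_contra hg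
    have h1 := Cfsg.Agent.H863.BMin.min_degree (F := ℂ) two_ne_zero (W := Fin n → ℂ) σ (by
      rintro rfl
      exact hg rfl)
    rw [Module.finrank_fin_fun] at h1
    omega
  refine ⟨⟨Representation.character (ρ : Representation ℂ Spor.BabyMonster (Fin 4371 → ℂ)),
    Cfsg.Agent.H419.MinDeg.irr_of_min hmin ⟨4371, ρ, rfl⟩ h1 (x := x) fun h => hx ?_⟩, ?_⟩
  · exact (Cfsg.Agent.S0139.result (ρ : Representation ℂ Spor.BabyMonster (Fin 4371 → ℂ)) x).1
      (by rw [h, Module.finrank_fin_fun])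
  · exact Cfsg.Agent.Blocks.Basic.charDegree_of_eq h1

theorem tri_b {S : Type u} [Group S] [Finite S] (h : Spor.IsoB S) :
    ∃ p q r : ℕ, Adj p q S ∧ Adj q r S ∧ Adj p r S := by
  obtain ⟨e⟩ := h
  have : Finite Spor.BabyMonster := Finite.of_equiv _ e.toEquiv
  exact ⟨3, 31, 47, adj_of_dvd e exists_b (by norm_num) (by norm_num) (by norm_num) (by norm_num),
    adj_of_dvd e exists_b (by norm_num) (by norm_num) (by norm_num) (by norm_num),
    adj_of_dvd e exists_b (by norm_num) (by norm_num) (by norm_num) (by norm_num)⟩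

theorem tri_m {S : Type u} [Group S] [Finite S] [IsSimpleGroup S] (h : Spor.IsoM S) :
    ∃ p q r : ℕ, Adj p q S ∧ Adj q r S ∧ Adj p r S := by
  obtain ⟨e⟩ := h
  have : Finite Spor.Monster := Finite.of_equiv _ e.toEquiv
  have : Nontrivial Spor.Monster := e.symm.toEquiv.nontrivial
  exact ⟨47, 59, 71, adj_of_dvd e exists_m (by norm_num) (by norm_num) (by norm_num) (by norm_num),
    adj_of_dvd e exists_m (by norm_num) (by norm_num) (by norm_num) (by norm_num),
    adj_of_dvd e exists_m (by norm_num) (by norm_num) (by norm_num) (by norm_num)⟩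

end Cfsg.Agent.H677.TriBM
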