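import Cfsg.Agent.H671.GraphSpor
import Cfsg.Agent.H671.GraphFin
import Cfsg.Agent.H653.Spor.Fi24

/-!
# `FactConn` and `FactDia` without hypotheses (helper677)

This module imports the classification `S0000` (through `GraphFin`).
-/

set_option autoImplicit false

namespace Cfsg.Agent.H677.DG

open Cfsg Cfsg.Agent.H671.H5 Cfsg.Agent.H671.GraphAsm

universe u

/-- **`FactConn`** : the degree graph of a nonabelian simple group other than `PSL(2,F)` is connected. -/
theorem factConnAll : FactConn.{u} := factConn' knownAll knownAll herzog

/-- **`FactDia`** : connected degree graphs of the simple groups other than `PSL(2,F)` have diameter at most three. -/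
theorem factDiaAll : FactDia.{u} :=
  factDia' knownAll knownAll herzog

end Cfsg.Agent.H677.DG
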