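import Cfsg.Agent.H677.DG.TriSporA
import Cfsg.Agent.H677.DG.TriBM
import Cfsg.Agent.H419.Spor.Co1
import Cfsg.Agent.H769.PB.CoThreeRank5
import Cfsg.Agent.H314.LyOrb.Deg
import Cfsg.Agent.H678.DG.Rows
import Cfsg.Agent.H678.DG.Mathieu
import Cfsg.Agent.H678.DG.He
import Cfsg.Agent.H678.DG.HS
import Cfsg.Agent.H678.DG.McL
import Cfsg.Agent.H653.Spor.Mathieu
import Cfsg.Agent.H653.Spor.J1
import Cfsg.Agent.H653.Spor.J3
import Cfsg.Agent.H492.FactsHN
import Cfsg.Agent.H492.FactsON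
import Cfsg.Agent.H492.FactsTh
import Cfsg.Agent.H492.IMJ4
import Cfsg.Agent.H30.GraphFi24A

/-!
# Triangles in the degree graphs of the sporadic groups (helper677)

`tri_spor` : all 26 of them.
-/

set_option autoImplicit false

open Cfsg Cfsg.Agent.H671.H5

namespace Cfsg.Agent.H677.TriSpor

universe u

/-- `Co1` : 276 -/
theorem co1 {S : Type u} [Group S] (h : Spor.IsoCo1 S) : Tri S := by
  obtain ⟨e⟩ := h
  refine Tri.of_equiv e ?_
  have h1 : ∃ χ : IrrCharacter Spor.Co1, charDegree (χ : Spor.Co1 → ℂ) = 276 := by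
    obtain ⟨θ, hθ⟩ := Cfsg.Agent.H419.Spor.Co1.exists_irr (x := Cfsg.Agent.SporadicA.Co0Mono.permCo0
      Cfsg.Agent.H419.Spor.Co1.y6) (Cfsg.Agent.H419.Spor.Co1.psi_perm Cfsg.Agent.H419.Spor.Co1.y6_fix
      Cfsg.Agent.H419.Spor.Co1.y6_fix2)
    refine ⟨θ, Cfsg.Agent.H670.PSing.charDegree_eq_of ?_⟩
    have h := hθ 1
    rw [map_one, Cfsg.Agent.H419.Spor.Co1.psi_one] at h
    rw [h]
    norm_num
  exact tri_of_degree h1 (p := 2) (q := 3) (r := 23) (by norm_num)
    (by norm_num) (by norm_num) (by norm_num) (by norm_num) (by norm_num) (by norm_num)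

/-- `Co3` : 2024 -/
theorem co3 {S : Type u} [Group S] [Finite S] (h : Spor.IsoCo3 S) : Tri S := by
  obtain ⟨e⟩ := h
  refine Tri.of_equiv e ?_
  have : Finite Spor.Co3 := Finite.of_equiv _ e.toEquiv
  obtain ⟨χ, hχ, -⟩ := Cfsg.Agent.H769.PB.CoThreeRank5.exists_chars.1
  exact tri_of_degree ⟨χ, hχ⟩ (p := 2) (q := 11) (r := 23) (by norm_num)
    (by norm_num) (by norm_num) (by norm_num) (by norm_num) (by norm_num) (by norm_num)

/-- `Ly` : 45694 -/
theorem ly {S : Type u} [Group S] (h : Spor.IsoLy S) : Tri S := by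
  obtain ⟨e⟩ := h
  refine Tri.of_equiv e ?_
  obtain ⟨χ, -, hχ⟩ := Cfsg.Agent.H314.LyOrb.exists_deg_ly
  exact tri_of_degree ⟨χ 1, hχ 1⟩ (p := 11) (q := 31) (r := 67) (by norm_num)
    (by norm_num) (by norm_num) (by norm_num) (by norm_num) (by norm_num) (by decide)

/-- **triangles for all sporadic groups** -/
theorem tri_spor (S : Type u) [Group S] [Finite S] [IsSimpleGroup S] (h : IsSporadicGroup S) : Tri S := by
  rcases h with h | h | h | h | h | h | h | h | h | h | h | h | h | h | h | h | h | h | h | h | h | h | h | h | h | h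
  · exact (H678.DG.Mathieu.facts_m11 h).tri
  · exact (H678.DG.Mathieu.facts_m12 h).tri
  · exact (H653.Spor.Mathieu.facts_m22 h).tri
  · exact (H653.Spor.Mathieu.facts_m23 h).tri
  · exact (H653.Spor.Mathieu.facts_m24 h).tri
  · exact (H653.Spor.J1.facts S h).tri
  · exact (H678.DG.Rows.facts_j2 h).tri
  · exact (H653.Spor.J3.facts S h).tri
  · exact (H492.IMJ4.facts_j4 h).tri
  · exact co1 h
  · exact co2 h
  · exact co3 h
  · exact (H678.DG.McL.facts_mcl h).tri
  · exact (H678.DG.HS.facts_hs h).tri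
  · exact (H678.DG.Rows.facts_suz h).tri
  · exact (H678.DG.He.facts_he h).tri
  · exact ru h
  · exact (H492.FactsON.facts_on h).tri
  · exact ly h
  · exact fi22 h
  · exact fi23 h
  · exact H30.GraphFi24.tri_fi24 h
  · exact (H492.FactsHN.facts_hn h).tri
  · exact (H492.FactsTh.facts_th h).tri
  · exact H677.TriBM.tri_b h
  · exact H677.TriBM.tri_m h

end Cfsg.Agent.H677.TriSpor
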